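import Cfsg.Agent.H50.HerFinal
import Cfsg.Agent.H117.Rd.Defs

/-!
# S3691, residual case F-D+2, part P2: transitive linear groups of odd dimension (helper292)

* `card_dvd_of_two` : a group of semilinear maps of the field with `p ^ k` elements has order dividing `(p ^ k - 1) k`
* `her` : the exact stub of `tools/plans/S3691_dplus2.lean.txt`
-/

set_option autoImplicit false

namespace Cfsg.Agent.H292.Rd

open Module Cfsg Cfsg.Agent.H117.Rd Cfsg.Agent.H667.HerFin

universe u v

theorem card_ringAut (p : ℕ) [Fact p.Prime] (F' : Type*) [Field F'] [Fintype F'] [CharP F' p] {k : ℕ}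
    (hk : Fintype.card F' = p ^ k) : Nat.card (F' ≃+* F') = k := by
  let _ : Algebra (ZMod p) F' := ZMod.algebra F' p
  let ε : (F' ≃+* F') ≃ (F' ≃ₐ[ZMod p] F') :=
    { toFun := fun σ => AlgEquiv.ofRingEquiv (f := σ) fun x => congrArg (fun f : ZMod p →+* F' => f x)
        (Subsingleton.elim ((σ : F' →+* F').comp (algebraMap (ZMod p) F')) (algebraMap (ZMod p) F'))
      invFun := fun σ => σ.toRingEquiv
      left_inv := fun σ => by ext; rfl
      right_inv := fun σ => by ext; rfl }
  have h2 : Nat.card (F' ≃ₐ[ZMod p] F') = finrank (ZMod p) F' := IsGalois.card_aut_eq_finrank (ZMod p) F'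
  rw [Nat.card_congr ε, h2]
  have h3 : Nat.card F' = p ^ finrank (ZMod p) F' := by
    rw [Module.natCard_eq_pow_finrank (K := ZMod p) (V := F'), Nat.card_zmod]
  rw [Nat.card_eq_fintype_card, hk] at h3
  exact (Nat.pow_right_injective (Fact.out : p.Prime).two_le h3).symm

/-- the order of a group of semilinear maps of a field -/
theorem card_dvd_of_two {p k : ℕ} [Fact p.Prime] {V : Type u} [AddCommGroup V] [Finite V] {q n : ℕ}
    (hq : q ^ n = p ^ k) {H : Subgroup (Equiv.Perm V)} (h : ConclTwo q n H) : Nat.card H ∣ (p ^ k - 1) * k := by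
  classical
  obtain ⟨F', iF, iF', e, hcard, h⟩ := h
  rw [hq] at hcard
  have hch : CharP F' p := by
    obtain ⟨r, hr⟩ := CharP.exists F'
    have hrp := CharP.char_is_prime F' r
    obtain ⟨n', -, hn'⟩ := FiniteField.card F' r
    have h1 : r ∣ p ^ k := by
      rw [← hcard, hn']
      exact dvd_pow_self r n'.ne_zero
    rw [← (Nat.prime_dvd_prime_iff_eq hrp Fact.out).1 (hrp.dvd_of_dvd_pow h1)]
    exact hr
  have huniq : ∀ {c c' : F'} {σ σ' : F' ≃+* F'}, (∀ x, c * σ x = c' * σ' x) → c ≠ 0 → c = c' ∧ σ = σ' := by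
    intro c c' σ σ' h1 h0
    have h2 := h1 1
    rw [map_one, map_one, mul_one, mul_one] at h2
    refine ⟨h2, ?_⟩
    ext x
    have h3 := h1 x
    rw [← h2] at h3
    exact mul_left_cancel₀ h0 h3
  have hne : ∀ (x : H) (c : F') (σ : F' ≃+* F'), (∀ v, e ((x : Equiv.Perm V) v) = c * σ (e v)) → c ≠ 0 := by
    rintro x c σ h1 rfl
    have h2 : ∀ v, (x : Equiv.Perm V) v = 0 := by
      intro v
      apply e.injective
      rw [h1, zero_mul, map_zero]
    have h3 : (e.symm 1 : V) = 0 := (x : Equiv.Perm V).injective ((h2 _).trans (h2 _).symm)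
    have h4 : (1 : F') = 0 := by rw [← e.apply_symm_apply 1, h3, map_zero]
    exact one_ne_zero h4
  choose c σ hcσ using fun x : H => h x.1 x.2
  have hmul : ∀ x y : H, c (x * y) = c x * σ x (c y) ∧ σ (x * y) = σ x * σ y := by
    intro x y
    refine huniq (fun z => ?_) (hne (x * y) _ _ (hcσ (x * y)))
    have h1 := hcσ (x * y) (e.symm z)
    rw [e.apply_symm_apply] at h1
    rw [← h1]
    show e ((x : Equiv.Perm V) ((y : Equiv.Perm V) (e.symm z))) = _
    rw [hcσ x, hcσ y, map_mul, e.apply_symm_apply, mul_assoc]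
    rfl
  let φ : H →* (F' ≃+* F') := MonoidHom.mk' σ fun x y => (hmul x y).2
  let ψ : φ.ker →* F'ˣ := MonoidHom.mk' (fun x => Units.mk0 (c x.1) (hne x.1 _ _ (hcσ x.1))) fun x y => by
    apply Units.ext
    rw [Units.val_mul, Units.val_mk0, Units.val_mk0, Units.val_mk0]
    have h1 := (hmul x.1 y.1).1
    have h2 : σ x.1 = 1 := x.2
    rw [h2] at h1
    exact h1
  have hψ : Function.Injective ψ := by
    intro x y hxy
    apply Subtype.ext
    apply Subtype.ext
    apply Equiv.ext
    intro v
    apply e.injective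
    rw [hcσ x.1, hcσ y.1]
    have h1 : c x.1 = c y.1 := congrArg Units.val hxy
    have h2 : σ x.1 = 1 := x.2
    have h3 : σ y.1 = 1 := y.2
    rw [h1, h2, h3]
  have h1 : Nat.card φ.ker ∣ p ^ k - 1 := by
    have h2 := Subgroup.card_dvd_of_injective ψ hψ
    rwa [Nat.card_units, Nat.card_eq_fintype_card (α := F'), hcard] at h2
  have h2 : Nat.card φ.range ∣ k := by
    have h3 := Subgroup.card_subgroup_dvd_card φ.range
    rwa [card_ringAut p F' hcard] at h3
  rw [← φ.ker.card_mul_index, Subgroup.index_ker]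
  exact mul_dvd_mul h1 h2

/-- the order of `SL_a(q)` -/
theorem pow_dvd_SL {F : Type*} [Field F] [Fintype F] {a : ℕ} (ha : 3 ≤ a) :
    Fintype.card F ^ a ∣ Nat.card (Matrix.SpecialLinearGroup (Fin a) F) := by
  classical
  set q := Fintype.card F with hq
  have hq1 : 1 < q := Fintype.one_lt_card
  have h1 : q ^ a ∣ Nat.card (GL (Fin a) F) := by
    rw [Matrix.card_GL_field]
    have h2 : ∏ i : Fin a, q ^ (i : ℕ) ∣ ∏ i : Fin a, (q ^ a - q ^ (i : ℕ)) := by
      refine Finset.prod_dvd_prod_of_dvd _ _ fun i _ => ?_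
      refine Nat.dvd_sub (pow_dvd_pow q i.2.le) dvd_rfl
    refine dvd_trans ?_ h2
    rw [Finset.prod_pow_eq_pow_sum]
    apply pow_dvd_pow
    rw [Fin.sum_univ_eq_sum_range (fun i => i) a]
    have h3 := Finset.sum_range_id_mul_two a
    obtain ⟨b, rfl⟩ := Nat.exists_eq_add_of_le ha
    have h4 : 3 + b - 1 = 2 + b := by omega
    rw [h4] at h3
    nlinarith
  have h2 : Nat.card (GL (Fin a) F) = Nat.card (Matrix.SpecialLinearGroup (Fin a) F) *
      Nat.card (Matrix.GeneralLinearGroup.det (n := Fin a) (R := F)).range := by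
    rw [← (Matrix.GeneralLinearGroup.det (n := Fin a) (R := F)).ker.card_mul_index, Subgroup.index_ker]
    congr 1
    have h3 : (Matrix.GeneralLinearGroup.det (n := Fin a) (R := F)).ker =
        (Matrix.SpecialLinearGroup.toGL (n := Fin a) (R := F)).range := by
      apply SetLike.coe_injective
      rw [MonoidHom.coe_range, Matrix.SpecialLinearGroup.range_toGL]
      rfl
    rw [h3]
    exact (Nat.card_congr (MonoidHom.ofInjective (Matrix.SpecialLinearGroup.toGL_injective (n := Fin a) (R := F))).toEquiv).symm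
  rw [h2] at h1
  refine Nat.Coprime.dvd_of_dvd_mul_right ?_ h1
  have h3 : Nat.card (Matrix.GeneralLinearGroup.det (n := Fin a) (R := F)).range ∣ q - 1 := by
    have h4 := Subgroup.card_subgroup_dvd_card (Matrix.GeneralLinearGroup.det (n := Fin a) (R := F)).range
    rwa [Nat.card_units, Nat.card_eq_fintype_card (α := F), ← hq] at h4
  have h4 : Nat.Coprime q (q - 1) := by
    rw [Nat.coprime_comm]
    exact (Nat.coprime_self_sub_left (by omega)).2 (Nat.coprime_one_left q)
  exact (Nat.Coprime.pow_left a h4).coprime_dvd_right h3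

/-- (P2) -/
theorem her (hX : ∀ (X : Type u) [Group X] [Finite X] [IsSimpleGroup X], IsKnownSimple' X)
    {F : Type v} {W : Type u} [Field F] [Fintype F] [AddCommGroup W] [Module F W] [Finite W] {p f m s : ℕ} (hfr : Fr p f m)
    (hodd : Odd m) (hF : Fintype.card F = p ^ f) (hW : finrank F W = m) (R : Subgroup (W ≃ₗ[F] W))
    (htr : ∀ v w : W, v ≠ 0 → w ≠ 0 → ∃ g ∈ R, ∃ c : F, g v = c • w)
    (hup : (Nat.card R).factorization p ≤ f * (m - 2)) (hlo : f * (m - 2) ≤ (Nat.card R).factorization p + l1 p f)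
    (hs : s.Prime) (hso : orderOf (p : ZMod s) = f * (m - 1)) (hsR : s ∣ Nat.card R) : False := by
  have hp := hfr.prime
  have hpf : Fact p.Prime := ⟨hp⟩
  have hm5 := hfr.five
  have hf1 := hfr.f1
  let θ : (W ≃ₗ[F] W) →* Equiv.Perm W := MulAction.toPermHom (W ≃ₗ[F] W) W
  have hθ : Function.Injective θ := by
    intro x y hxy
    ext v
    exact DFunLike.congr_fun hxy v
  set H : Subgroup (Equiv.Perm W) := R.map θ with hH
  have hcard : Nat.card H = Nat.card R := (Nat.card_congr (R.equivMapOfInjective θ hθ).toEquiv).symm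
  have hHfin : Finite H := inferInstance
  have hcR : Nat.card R ≠ 0 := by rw [← hcard]; exact Nat.card_pos.ne'
  have main := Cfsg.Agent.H50.Her.hering_of_known hX (K := F) (V := W) (p ^ f) m hF hW (by omega) H
    (by
      rintro _ ⟨g, -, rfl⟩ v w
      exact map_add g v w)
    (by
      rintro _ ⟨g, -, rfl⟩
      exact ⟨RingEquiv.refl F, fun c v => map_smul g c v⟩)
    (by
      intro v w hv hw
      obtain ⟨g, hg, c, h⟩ := htr v w hv hw
      exact ⟨θ g, ⟨g, hg, rfl⟩, c, h⟩)
  obtain ⟨j, hj⟩ := hodd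
  have hbig : ∀ {N : Subgroup H} {a b : ℕ} {F' : Type} [Field F'] [Fintype F'], a * b = m → Fintype.card F' = (p ^ f) ^ b →
      2 ≤ a → ¬ Nonempty (N ≃* Matrix.SpecialLinearGroup (Fin a) F') := by
    rintro N a b F' _ _ hab hc ha ⟨ε⟩
    have ha3 : 3 ≤ a := by
      rcases Nat.lt_or_ge a 3 with h | h
      · have h2 : a = 2 := by omega
        subst h2
        omega
      · exact h
    have h1 := pow_dvd_SL (F := F') ha3
    rw [← Nat.card_congr ε.toEquiv, hc, ← pow_mul, ← pow_mul, mul_comm b a, hab] at h1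
    have h2 : p ^ (f * m) ∣ Nat.card R := by
      rw [← hcard]
      exact h1.trans (Subgroup.card_subgroup_dvd_card N)
    have h3 := (hp.pow_dvd_iff_le_factorization hcR).1 h2
    have h4 : f * m ≤ f * (m - 2) := h3.trans hup
    have h5 := Nat.le_of_mul_le_mul_left h4 hf1
    omega
  rcases main with h | h | h | h | h | h | h
  · obtain ⟨a, b, F', _, _, hab, hc, N, -, h⟩ := h
    rcases h with ⟨ha, h⟩ | ⟨k, ha, -, -⟩ | ⟨ha, -⟩ | ⟨ha, -⟩
    · exact hbig hab hc ha h
    · subst ha
      have h1 : 2 ∣ m := ⟨k * b, by rw [← hab]; ring⟩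
      omega
    · subst ha
      omega
    · subst ha
      omega
  · have h1 := card_dvd_of_two (p := p) (k := f * m) (by rw [← pow_mul]) h
    rw [hcard] at h1
    have hps : ¬ p ∣ p ^ (f * m) - 1 := by
      intro h2
      have h3 : p ∣ p ^ (f * m) := dvd_pow_self p (Nat.mul_ne_zero (by omega) (by omega))
      have h4 := (Nat.dvd_sub h3 h2)
      rw [Nat.sub_sub_self (Nat.one_le_pow _ _ hp.pos)] at h4
      exact hp.one_lt.ne' (Nat.dvd_one.1 h4)
    have hfm : 0 < f * (m - 1) := Nat.mul_pos (by omega) (by omega)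
    have hsfact : Fact s.Prime := ⟨hs⟩
    have hs1 : ¬ s ∣ p ^ (f * m) - 1 := by
      intro h2
      have h3 : (p : ZMod s) ^ (f * m) = 1 := by
        have h4 : ((p ^ (f * m) - 1 : ℕ) : ZMod s) = 0 := (ZMod.natCast_eq_zero_iff _ _).2 h2
        rw [Nat.cast_sub (Nat.one_le_pow _ _ hp.pos)] at h4
        push_cast at h4
        exact sub_eq_zero.1 h4
      have h4 := orderOf_dvd_of_pow_eq_one h3
      rw [hso] at h4
      have h5 : m - 1 ∣ m := Nat.dvd_of_mul_dvd_mul_left hf1 h4
      have h6 := (Nat.dvd_sub h5 (dvd_refl (m - 1)))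
      rw [Nat.sub_sub_self (by omega)] at h6
      have := Nat.le_of_dvd one_pos h6
      omega
    have hsf : s ∣ f * m := (hs.dvd_mul.1 (hsR.trans h1)).resolve_left hs1
    -- `f (m - 1) ≤ s - 1`
    have hs0 : (p : ZMod s) ≠ 0 := by
      intro h2
      rw [h2] at hso
      have h3 : orderOf (0 : ZMod s) = 0 := orderOf_eq_zero_iff'.2 fun n hn h4 => by
        rw [zero_pow hn.ne'] at h4
        exact zero_ne_one h4
      omega
    have hsle : f * (m - 1) ≤ s - 1 := by
      rw [← hso]
      exact Nat.le_of_dvd (by have := hs.two_le; omega) (ZMod.orderOf_dvd_card_sub_one hs0)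
    have hsm : s ∣ m := by
      rcases hs.dvd_mul.1 hsf with h2 | h2
      · have h3 := Nat.le_of_dvd hf1 h2
        have h4 : f * 4 ≤ f * (m - 1) := Nat.mul_le_mul_left _ (by omega)
        have := hs.two_le
        omega
      · exact h2
    have hsm' := Nat.le_of_dvd (by omega) hsm
    have hf : f = 1 := by
      by_contra hne
      have h2 : 2 * (m - 1) ≤ f * (m - 1) := Nat.mul_le_mul_right _ (by omega)
      omega
    subst hf
    have hsm2 : s = m := by
      rw [one_mul] at hsle
      omega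
    subst hsm2
    have hv : (Nat.card R).factorization p = 0 := by
      have h2 : ¬ p ∣ Nat.card R := by
        intro h2
        rcases hp.dvd_mul.1 (h2.trans h1) with h3 | h3
        · exact hps h3
        · rw [one_mul] at h3
          have h4 := (Nat.prime_dvd_prime_iff_eq hp hs).1 h3
          apply hs0
          rw [h4]
          exact ZMod.natCast_self s
      exact Nat.factorization_eq_zero_of_not_dvd h2
    rw [hv, one_mul] at hlo
    have hl : l1 p 1 ≤ 2 := by
      unfold l1
      split_ifs with h2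
      · simp
      · simp
    omega
  · omega
  · omega
  · omega
  · omega
  · omega

end Cfsg.Agent.H292.Rd
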