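import Cfsg.Agent.H957.SpIndex
import Cfsg.Agent.H402.Rg.Dk
import Cfsg.Agent.S0300
import Cfsg.Agent.LieClassical.OrthFourCommon
import Cfsg.Agent.ClassicalGeometry.Reflection

/-!
# S3691, `PSp₄(2^f)`: subgroups of `O₄⁻(q)` containing a primitive prime divisor of `q⁴ - 1` (helper292)
-/

set_option autoImplicit false
set_option linter.unusedSectionVars false

namespace Cfsg.Agent.H292.Rd

open Module Matrix Cfsg
open scoped MatrixGroups Matrix
open Cfsg.Agent.H884.El (PP)
open Cfsg.Agent.LieClassical.OrthCore (Nondeg)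

/-! ### abstract part -/

section group

/-- if `|G| = 2 |G'/Z(G')|`, every subgroup has, up to a factor two, the order of its image in `G'/Z(G')` -/
theorem exists_image {G P : Type*} [Group G] [Group P] [Finite G] (e : (commutator G ⧸ Subgroup.center (commutator G)) ≃* P)
    (hc : Nat.card G = 2 * Nat.card P) (X : Subgroup G) :
    ∃ H : Subgroup P, Nat.card H ∣ Nat.card X ∧ Nat.card X ∣ 2 * Nat.card H := by
  set Ω := commutator G with hΩ
  set Z := Subgroup.center Ω with hZ
  have hQ : Nat.card (Ω ⧸ Z) = Nat.card P := Nat.card_congr e.toEquiv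
  have h1 : Nat.card Ω = Nat.card P * Nat.card Z := by
    rw [Subgroup.card_eq_card_quotient_mul_card_subgroup Z, hQ]
  have h2 : Nat.card Ω * Ω.index = Nat.card G := Subgroup.card_mul_index Ω
  have hfP : Finite P := Finite.of_equiv _ e.toEquiv
  have hP : 0 < Nat.card P := Nat.card_pos
  have h3 : Nat.card Z * Ω.index = 2 := by
    rw [h1, hc] at h2
    have : Nat.card P * (Nat.card Z * Ω.index) = Nat.card P * 2 := by
      rw [← mul_assoc, h2, mul_comm]
    exact Nat.eq_of_mul_eq_mul_left hP this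
  -- the part in `Ω`
  set X1 : Subgroup Ω := X.subgroupOf Ω with hX1
  set π : Ω →* P := e.toMonoidHom.comp (QuotientGroup.mk' Z) with hπ
  have hker : π.ker = Z := by
    ext x
    rw [MonoidHom.mem_ker, hπ, MonoidHom.comp_apply]
    constructor
    · intro h
      have h4 : (QuotientGroup.mk' Z) x = 1 := e.injective (by rw [map_one]; exact h)
      exact (QuotientGroup.eq_one_iff x).1 h4
    · intro h
      have h4 : (QuotientGroup.mk' Z) x = 1 := (QuotientGroup.eq_one_iff x).2 h
      rw [h4, map_one]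
  have h5 : π.ker.relIndex X1 = Nat.card (X1.map π) := Subgroup.relIndex_ker _ π
  have h6 : Nat.card (π.ker ⊓ X1 : Subgroup Ω) * π.ker.relIndex X1 = Nat.card X1 := by
    have := Subgroup.relIndex_mul_relIndex (⊥ : Subgroup Ω) (π.ker ⊓ X1) X1 bot_le inf_le_right
    rw [Subgroup.relIndex_bot_left, Subgroup.relIndex_bot_left, Subgroup.inf_relIndex_right] at this
    exact this
  have h7 : Nat.card (π.ker ⊓ X1 : Subgroup Ω) ∣ Nat.card Z := by
    rw [hker]
    exact Subgroup.card_dvd_of_le inf_le_left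
  have h8 : Nat.card X1 * Ω.relIndex X = Nat.card X := by
    have := Subgroup.relIndex_mul_relIndex (⊥ : Subgroup G) (Ω ⊓ X) X bot_le inf_le_right
    rw [Subgroup.relIndex_bot_left, Subgroup.relIndex_bot_left, Subgroup.inf_relIndex_right] at this
    rw [← this]
    congr 1
    have h9 : (X1.map Ω.subtype) = Ω ⊓ X := by
      rw [hX1, Subgroup.subgroupOf_map_subtype, inf_comm]
    rw [← h9, Subgroup.card_map_of_injective Ω.subtype_injective]
  have h9 : Ω.relIndex X ∣ Ω.index := Subgroup.relIndex_dvd_index_of_normal Ω X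
  refine ⟨X1.map π, ?_, ?_⟩
  · rw [← h8, ← h6, h5]
    exact Dvd.dvd.mul_right (Dvd.intro_left _ rfl) _
  · rw [← h8, ← h6, h5, ← h3]
    calc Nat.card (π.ker ⊓ X1 : Subgroup Ω) * Nat.card (X1.map π) * Ω.relIndex X
        = Nat.card (π.ker ⊓ X1 : Subgroup Ω) * Ω.relIndex X * Nat.card (X1.map π) := by ring
      _ ∣ Nat.card Z * Ω.index * Nat.card (X1.map π) := mul_dvd_mul (mul_dvd_mul h7 h9) dvd_rfl

end group

/-! ### transport of isometry groups -/

section transport

variable {F : Type} [Field F] {ι κ : Type} [Fintype ι] [DecidableEq ι] [Fintype κ] [DecidableEq κ]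

/-- transport of matrices along a linear equivalence -/
noncomputable def trE (L : (κ → F) ≃ₗ[F] (ι → F)) : GL κ F ≃* GL ι F :=
  (LieClassical.OrthFourCommon.glEquiv L).trans (LieClassical.OrthFinite.glEquiv ι F).symm

theorem trE_mulVec (L : (κ → F) ≃ₗ[F] (ι → F)) (g : GL κ F) (v : κ → F) :
    (trE L g : Matrix ι ι F) *ᵥ (L v) = L ((g : Matrix κ κ F) *ᵥ v) := by
  rw [← LieClassical.OrthFinite.glEquiv_apply]
  unfold trE
  rw [MulEquiv.trans_apply, MulEquiv.apply_symm_apply, LieClassical.OrthFourCommon.glEquiv_apply,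
    LinearEquiv.symm_apply_apply]

variable {Q : (ι → F) → F} {q : (κ → F) → F} {L : (κ → F) ≃ₗ[F] (ι → F)}

theorem map_trE (h : ∀ v, Q (L v) = q v) : (isometryGroup F q).map (trE L).toMonoidHom = isometryGroup F Q := by
  ext g
  constructor
  · rintro ⟨g, hg, rfl⟩
    rw [Cfsg.Agent.ClassicalGeometry.Reflection.mem_isometryGroup_iff]
    intro v
    obtain ⟨w, rfl⟩ := L.surjective v
    change Q ((trE L g : Matrix ι ι F) *ᵥ (L w)) = _
    rw [trE_mulVec, h, h]
    exact (Cfsg.Agent.ClassicalGeometry.Reflection.mem_isometryGroup_iff _ _).1 hg w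
  · intro hg
    refine ⟨(trE L).symm g, ?_, (trE L).apply_symm_apply g⟩
    refine (Cfsg.Agent.ClassicalGeometry.Reflection.mem_isometryGroup_iff _ _).2 fun v => ?_
    rw [← h, ← h, ← trE_mulVec, MulEquiv.apply_symm_apply]
    exact (Cfsg.Agent.ClassicalGeometry.Reflection.mem_isometryGroup_iff _ _).1 hg (L v)

/-- transport of isometry groups -/
noncomputable def tr (h : ∀ v, Q (L v) = q v) : ↥(isometryGroup F q) ≃* ↥(isometryGroup F Q) :=
  ((trE L).subgroupMap (isometryGroup F q)).trans (MulEquiv.subgroupCongr (map_trE h))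

end transport

/-- **Box O** -/
theorem o4m {F : Type} [Field F] [Fintype F] [CharP F 2] {f : ℕ} (hf : 2 ≤ f) (hF : Fintype.card F = 2 ^ f)
    (Q : QuadraticForm F (Fin 2 ⊕ Fin 2 → F)) (hnd : Nondeg Q) (hP : ¬ Cfsg.Agent.H955.IsPlus Q) {r : ℕ}
    (hr : PP 2 (2 * (2 * f)) r) {X : Subgroup (GL (Fin 2 ⊕ Fin 2) F)} (hX : X ≤ Cfsg.isometryGroup F (⇑Q))
    (hrX : r ∣ Nat.card X) : (2 ^ f) ^ 2 ∣ Nat.card X ∨ Nat.card X ≤ 8 * ((2 ^ f) ^ 2 + 1) := by
  obtain ⟨a, b, hab⟩ := H955.exists_aniso_coeff F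
  obtain ⟨e, he⟩ := H955.exists_minus_equiv hab 1 Q hnd (by rw [Module.finrank_fintype_fun_eq_card]; simp) hP
  have he' : ∀ v, quadFormMinus 1 F a b (e v) = (⇑Q) v := fun v => by
    rw [← he v, LieClassical.QuadForms.coe_minusForm]
  let φ := tr he'
  -- the field of `q²` elements
  obtain ⟨K, iK, iK2, hK⟩ : ∃ (K : Type) (_ : Field K) (_ : Fintype K), Fintype.card K = (Fintype.card F) ^ 2 := by
    have hfp : Fact (Nat.Prime 2) := ⟨Nat.prime_two⟩
    have h2f : f * 2 ≠ 0 := by omega
    let _ : Fintype (GaloisField 2 (f * 2)) := Fintype.ofFinite _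
    refine ⟨GaloisField 2 (f * 2), inferInstance, inferInstance, ?_⟩
    rw [← Nat.card_eq_fintype_card, GaloisField.card 2 _ h2f, hF, pow_mul]
  obtain ⟨ψ⟩ := Cfsg.Agent.S0300.result (F := F) (K := K) rfl hK a b hab
  have hK2 : Fintype.card K = 2 ^ (2 * f) := by rw [hK, hF, ← pow_mul, mul_comm f 2]
  have hch : CharP K 2 := by
    have hfp : Fact (Nat.Prime 2) := ⟨Nat.prime_two⟩
    have h1 : ringChar K = 2 := FiniteField.even_card_iff_char_two.2 (by
      rw [hK2]
      have : 2 ∣ 2 ^ (2 * f) := dvd_pow_self 2 (by omega)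
      omega)
    exact ringChar.of_eq h1
  have hq : 4 ≤ 2 ^ f := by
    calc 4 = 2 ^ 2 := by norm_num
      _ ≤ 2 ^ f := Nat.pow_le_pow_right (by norm_num) hf
  -- the orders
  have hcG : Nat.card (isometryGroup F (quadFormMinus 1 F a b)) = 2 * Nat.card (ProjectiveSpecialLinearGroup (Fin 2) K) := by
    have h1 := Cfsg.Agent.H957.card_isometryGroup_minus Q hnd (m := 2) (by norm_num) (by simp) hP
    rw [← Nat.card_congr φ.toEquiv, h1]
    have h3 := Cfsg.Agent.H394.SqPsl2.card_psl (F := K)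
    have hgcd : Nat.gcd 2 (Fintype.card K - 1) = 1 := by
      rw [← Nat.coprime_iff_gcd_eq_one, Nat.coprime_two_left, hK2]
      exact Nat.Even.sub_odd (Nat.one_le_two_pow) (Nat.even_pow.2 ⟨even_two, by omega⟩) odd_one
    rw [hgcd, one_mul, hK] at h3
    rw [h3, Finset.prod_range_one]
    have h4 : Fintype.card F ^ 2 ≥ 1 := Nat.one_le_pow _ _ Fintype.card_pos
    obtain ⟨c, hc⟩ : ∃ c, Fintype.card F ^ 2 = c + 1 := ⟨_, (Nat.sub_add_cancel h4).symm⟩
    have h5 : (Fintype.card F ^ 2) ^ 2 - 1 = (Fintype.card F ^ 2 + 1) * (Fintype.card F ^ 2 - 1) := by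
      rw [hc, Nat.add_sub_cancel]
      have : (c + 1) ^ 2 = (c + 1 + 1) * c + 1 := by ring
      rw [this, Nat.add_sub_cancel]
    rw [h5]
    norm_num
    ring
  have hfG : Finite (isometryGroup F (quadFormMinus 1 F a b)) := inferInstance
  -- the image of `X`
  let X' : Subgroup (isometryGroup F (quadFormMinus 1 F a b)) := (X.subgroupOf (isometryGroup F ⇑Q)).map φ.toMonoidHom
  have hcX : Nat.card X' = Nat.card X := by
    show Nat.card ((X.subgroupOf (isometryGroup F ⇑Q)).map φ.toMonoidHom) = _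
    rw [Subgroup.card_map_of_injective φ.injective]
    exact Nat.card_congr (Subgroup.subgroupOfEquivOfLe hX).toEquiv
  obtain ⟨H, hH1, hH2⟩ := exists_image ψ hcG X'
  rw [hcX] at hH1 hH2
  have hr2 : r ≠ 2 := by
    rintro rfl
    have h1 := hr.ord
    have h3 : ((2 : ℕ) : ZMod 2) = 0 := by decide
    rw [h3] at h1
    have h4 : orderOf (0 : ZMod 2) = 0 := by
      rw [orderOf_eq_zero_iff']
      intro n hn
      rw [zero_pow hn.ne']
      decide
    rw [h4] at h1
    omega
  have hrH : r ∣ Nat.card H := by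
    have h1 := hrX.trans hH2
    rcases (Nat.Prime.dvd_mul hr.prime).1 h1 with h | h
    · exact absurd ((Nat.prime_dvd_prime_iff_eq hr.prime Nat.prime_two).1 h) hr2
    · exact h
  have hfp : Fact (Nat.Prime 2) := ⟨Nat.prime_two⟩
  have hXle : Nat.card X ≤ 2 * Nat.card H := Nat.le_of_dvd (by
    have : Finite H := inferInstance
    have := Nat.card_pos (α := H)
    omega) hH2
  rcases Cfsg.Agent.H402.Rg.psl_of_pp hK2 (by omega) hr H hrH with h | h | h
  · left
    refine dvd_trans ?_ hH1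
    rw [h, Subgroup.card_top]
    have h3 := Cfsg.Agent.H394.SqPsl2.card_psl (F := K)
    have hgcd : Nat.gcd 2 (Fintype.card K - 1) = 1 := by
      rw [← Nat.coprime_iff_gcd_eq_one, Nat.coprime_two_left, hK2]
      exact Nat.Even.sub_odd (Nat.one_le_two_pow) (Nat.even_pow.2 ⟨even_two, by omega⟩) odd_one
    rw [hgcd, one_mul] at h3
    rw [h3, hK, hF]
    exact Dvd.intro _ rfl
  · right
    rw [hK, hF] at h
    omega
  · right
    have : 16 ≤ (2 ^ f) ^ 2 := by nlinarith
    omega

end Cfsg.Agent.H292.Rd
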